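import Groth.Agent.CyclicCoverLib.Basic
import Groth.Agent.RegLocLib.Basic
import Groth.Agent.RegLocal.UFD

/-!
# Cyclic covers of regular rings, and normality of regular rings
-/

set_option autoImplicit false
universe u
open Polynomial IsLocalRing

noncomputable section

namespace Groth.Agent.CyclicRootLib

theorem isRegularRing_of_isLocalization {R : Type u} [CommRing R] [IsRegularRing R] (M : Submonoid R)
    (S : Type u) [CommRing S] [Algebra R S] [IsLocalization M S] : IsRegularRing S := by
  haveI : IsNoetherianRing S := IsLocalization.isNoetherianRing M S inferInstance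
  refine isRegularRing_iff.2 fun Q hQ => ?_
  exact (RegLocLib.mem_regLocus_iff_of_isLocalization M ⟨Q, hQ⟩).2
    (IsRegularRing.isRegularLocalRing_localization _)

theorem isRegularRing_of_etale (R S : Type u) [CommRing R] [CommRing S] [Algebra R S]
    [Algebra.Etale R S] [IsRegularRing R] : IsRegularRing S := by
  haveI : IsNoetherianRing S := Algebra.FiniteType.isNoetherianRing R S
  refine isRegularRing_iff.2 fun q _ => ?_
  exact ((PurityLib.dim_regular_of_etale (q.under R) q).2).2
    (IsRegularRing.isRegularLocalRing_localization _)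

/-- An étale cyclic cover keeps regular divisors regular. -/
theorem isRegularRing_cover_quot (B : Type u) [CommRing B] (f : B)
    [IsRegularRing (B ⧸ Ideal.span {f})] (u : B) (hu : IsUnit u) (e : ℕ) (he : 0 < e)
    (heu : IsUnit (e : B)) :
    IsRegularRing (AdjoinRoot (X ^ e - C u) ⧸
      Ideal.span {algebraMap B (AdjoinRoot (X ^ e - C u)) f}) := by
  let q := Ideal.Quotient.mk (Ideal.span {f})
  haveI := CyclicCoverLib.etale_adjoinRoot (B ⧸ Ideal.span {f}) (q u) (hu.map q) e he
    (by simpa using heu.map q)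
  haveI := isRegularRing_of_etale (B ⧸ Ideal.span {f}) (AdjoinRoot (X ^ e - C (q u)))
  have h : Ideal.span {algebraMap B (AdjoinRoot (X ^ e - C u)) f} =
      (Ideal.span {f}).map (AdjoinRoot.of (X ^ e - C u)) := by
    rw [Ideal.map_span, Set.image_singleton]; rfl
  have h2 : (X ^ e - C u : B[X]).map q = X ^ e - C (q u) := by simp
  refine IsRegularRing.of_ringEquiv (R := AdjoinRoot (X ^ e - C (q u))) ?_
  exact (((Ideal.quotEquivOfEq h).trans
    ((AdjoinRoot.quotEquivQuotMap (X ^ e - C u) (Ideal.span {f})).toRingEquiv.trans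
      (Ideal.quotEquivOfEq (congrArg (fun p => Ideal.span ({p} : Set (B ⧸ Ideal.span {f})[X])) h2)))).symm)

theorem ne_zero_algebraMap_of_mem_nonZeroDivisors {R : Type u} [CommRing R] (P : Ideal R) [P.IsPrime]
    {s : R} (hs : s ∈ nonZeroDivisors R) : algebraMap R (Localization.AtPrime P) s ≠ 0 := by
  intro h
  obtain ⟨⟨c, hc⟩, hcs⟩ := (IsLocalization.map_eq_zero_iff P.primeCompl _ s).1 h
  have : c = 0 := (mem_nonZeroDivisors_iff.1 hs).2 c hcs
  exact hc (this ▸ P.zero_mem)

/-- `E[x]/(x^n - s)` is regular for a regular ring `E`, a regular divisor `s` and `n` invertible. -/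
theorem isRegularRing_adjoinRoot (E : Type u) [CommRing E] [IsRegularRing E] (s : E)
    (hs : s ∈ nonZeroDivisors E) [IsRegularRing (E ⧸ Ideal.span {s})] (n : ℕ) (hn : 0 < n)
    (hnu : IsUnit (n : E)) : IsRegularRing (AdjoinRoot (X ^ n - C s)) := by
  haveI : Module.Finite E (AdjoinRoot (X ^ n - C s)) := (monic_X_pow_sub_C s hn.ne').finite_adjoinRoot
  haveI : IsNoetherianRing (AdjoinRoot (X ^ n - C s)) := IsNoetherianRing.of_finite E _
  refine isRegularRing_iff.2 fun Q hQ => ?_
  let P : Ideal E := Q.comap (AdjoinRoot.of (X ^ n - C s))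
  let L := Localization.AtPrime P
  let g := algebraMap E L
  haveI : IsRegularLocalRing L := IsRegularRing.isRegularLocalRing_localization P
  haveI : IsRegularRing (L ⧸ Ideal.span {g s}) := by
    haveI : IsRegularRing (L ⧸ (Ideal.span {s}).map g) :=
      isRegularRing_of_isLocalization (Algebra.algebraMapSubmonoid (E ⧸ Ideal.span {s}) P.primeCompl) _
    exact IsRegularRing.of_ringEquiv (Ideal.quotEquivOfEq
      (show (Ideal.span {s}).map g = Ideal.span {g s} by rw [Ideal.map_span, Set.image_singleton]))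
  haveI := CyclicCoverLib.isRegularRing_adjoinRoot L (g s) (ne_zero_algebraMap_of_mem_nonZeroDivisors P hs)
    inferInstance n hn (by simpa [g] using hnu.map g)
  letI : Algebra E[X] L[X] := (mapRingHom g).toAlgebra
  haveI : IsLocalization (P.primeCompl.map (C : E →+* E[X])) L[X] := Polynomial.isLocalization _ _
  let I : Ideal E[X] := Ideal.span {X ^ n - C s}
  have hI : I.map (algebraMap E[X] L[X]) = Ideal.span {X ^ n - C (g s)} := by
    rw [Ideal.map_span, Set.image_singleton]
    congr 2
    show Polynomial.map g _ = _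
    simp
  haveI hreg : IsRegularRing (L[X] ⧸ I.map (algebraMap E[X] L[X])) :=
    IsRegularRing.of_ringEquiv (R := AdjoinRoot (X ^ n - C (g s))) (Ideal.quotEquivOfEq hI).symm
  let M' := Algebra.algebraMapSubmonoid (E[X] ⧸ I) (P.primeCompl.map (C : E →+* E[X]))
  haveI : IsLocalization M' (L[X] ⧸ I.map (algebraMap E[X] L[X])) := inferInstance
  let Q' : Ideal (E[X] ⧸ I) := Q
  haveI hQp : Q'.IsPrime := hQ
  have hd : Disjoint (M' : Set (E[X] ⧸ I)) (Q' : Set (E[X] ⧸ I)) := by
    rw [Set.disjoint_left]
    rintro _ ⟨_, ⟨c, hc, rfl⟩, rfl⟩ hcQ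
    exact hc hcQ
  haveI hQ' := IsLocalization.isPrime_of_isPrime_disjoint M' (L[X] ⧸ I.map (algebraMap E[X] L[X]))
    Q' hQp hd
  have h := (RegLocLib.mem_regLocus_iff_of_isLocalization M' ⟨_, hQ'⟩).1
    (IsRegularRing.isRegularLocalRing_localization (R := L[X] ⧸ I.map (algebraMap E[X] L[X])) _)
  have hQ2 := IsLocalization.under_map_of_isPrime_disjoint M' (L[X] ⧸ I.map (algebraMap E[X] L[X]))
    (I := Q') hQp hd
  have e : PrimeSpectrum.comap (algebraMap (E[X] ⧸ I) (L[X] ⧸ I.map (algebraMap E[X] L[X]))) ⟨_, hQ'⟩ =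
      ⟨Q', hQp⟩ := PrimeSpectrum.ext hQ2
  rw [e] at h
  exact h

/-- A regular ring is integrally closed in its localization at a non-zero-divisor. -/
theorem exists_eq_of_isIntegral_away {R : Type u} [CommRing R] [IsRegularRing R] (f : R)
    (hf : f ∈ nonZeroDivisors R) (S : Type u) [CommRing S] [Algebra R S] [IsLocalization.Away f S]
    (z : S) (hz : IsIntegral R z) : ∃ y : R, algebraMap R S y = z := by
  obtain ⟨k, a, ha⟩ := IsLocalization.Away.surj f z
  suffices hmem : a ∈ Ideal.span {f ^ k} by
    obtain ⟨y, hy⟩ := Ideal.mem_span_singleton'.1 hmem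
    refine ⟨y, (IsLocalization.Away.algebraMap_pow_isUnit (S := S) f k).mul_left_injective ?_⟩
    show algebraMap R S y * _ = z * _
    rw [ha, ← hy, map_mul, map_pow]
  refine Submodule.mem_of_localization_maximal (fun P _ => Localization.AtPrime P)
    (fun P _ => Algebra.linearMap R (Localization.AtPrime P)) _ _ fun P hP => ?_
  let L := Localization.AtPrime P
  haveI : IsRegularLocalRing L := IsRegularRing.isRegularLocalRing_localization P
  haveI : IsDomain L := RegLocal.isDomain (R := L)
  haveI := RegLocal.ufd L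
  haveI : IsIntegrallyClosed L := UniqueFactorizationMonoid.instIsIntegrallyClosed
  let F := FractionRing L
  have hfu : IsUnit (algebraMap R F f) := by
    rw [IsScalarTower.algebraMap_apply R L F, isUnit_iff_ne_zero, ne_eq,
      FaithfulSMul.algebraMap_eq_zero_iff]
    exact ne_zero_algebraMap_of_mem_nonZeroDivisors P hf
  let φ : S →ₐ[R] F := IsLocalization.Away.liftAlgHom f (f := Algebra.ofId R F) hfu
  have hzF : IsIntegral L (φ z) := (hz.map φ).tower_top
  obtain ⟨b, hb⟩ := IsIntegrallyClosed.isIntegral_iff.1 hzF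
  have e : algebraMap R L a = b * algebraMap R L f ^ k := by
    apply FaithfulSMul.algebraMap_injective L F
    rw [map_mul, map_pow, hb, ← IsScalarTower.algebraMap_apply, ← IsScalarTower.algebraMap_apply,
      ← φ.commutes, ← φ.commutes f, ← map_pow φ, ← map_mul φ, ha]
  refine Submodule.mem_localized₀ _ _ _ _ |>.2 ?_
  obtain ⟨⟨r, c⟩, hc⟩ := IsLocalization.surj P.primeCompl b
  refine ⟨r * f ^ k, Ideal.mul_mem_left _ _ (Ideal.mem_span_singleton_self _), c, ?_⟩
  rw [IsLocalizedModule.mk'_eq_iff]
  show algebraMap R L (r * f ^ k) = (c : R) • algebraMap R L a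
  rw [e, map_mul, map_pow, ← hc, Algebra.smul_def]
  ring

end Groth.Agent.CyclicRootLib
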