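import Groth.Agent.CyclicRootLib.Regular

/-!
# The regular model of the algebra of an `N`-th root of `u f ^ α`
-/

set_option autoImplicit false
universe u
open Polynomial

noncomputable section

namespace Groth.Agent.CyclicRootLib

section Units

variable {G : Type*} [CommGroup G] (T F : G)

/-- `T ^ a * F ^ b`. -/
def w (a b : ℤ) : G := T ^ a * F ^ b

theorem w_mul (a b c e : ℤ) : w T F a b * w T F c e = w T F (a + c) (b + e) := by
  simp only [w, zpow_add]
  exact mul_mul_mul_comm _ _ _ _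

theorem w_zpow (a b k : ℤ) : w T F a b ^ k = w T F (a * k) (b * k) := by
  simp only [w, mul_zpow, ← zpow_mul]

theorem w_eq {a b a' b' : ℤ} (ha : a = a') (hb : b = b') : w T F a b = w T F a' b' := by
  rw [ha, hb]

theorem w_snd : F = w T F 0 1 := by simp [w]

theorem w_fst : T = w T F 1 0 := by simp [w]

theorem w_zero : (1 : G) = w T F 0 0 := by simp [w]

theorem map_w {H : Type*} [CommGroup H] (φ : G →* H) (a b : ℤ) :
    φ (w T F a b) = w (φ T) (φ F) a b := by simp [w]

end Units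

variable {B : Type u} [CommRing B]

/-- `B[v] / (v ^ d - u)`. -/
abbrev EE (u : Bˣ) (d : ℕ) : Type u := AdjoinRoot (X ^ d - C (u : B))

theorem root_pow (u : Bˣ) (d : ℕ) :
    AdjoinRoot.root (X ^ d - C (u : B)) ^ d = algebraMap B (EE u d) u := by
  have h := AdjoinRoot.eval₂_root (X ^ d - C (u : B))
  rw [eval₂_sub, eval₂_X_pow, eval₂_C, sub_eq_zero] at h
  exact h

/-- `v` as a unit. -/
def vU (u : Bˣ) {d : ℕ} (hd : 0 < d) : (EE u d)ˣ :=
  ((isUnit_pow_iff hd.ne').1 (root_pow u d ▸ u.isUnit.map _) :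
    IsUnit (AdjoinRoot.root (X ^ d - C (u : B)))).unit

theorem vU_val (u : Bˣ) {d : ℕ} (hd : 0 < d) :
    (vU u hd : EE u d) = AdjoinRoot.root (X ^ d - C (u : B)) := IsUnit.unit_spec _

/-- The divisor cutting the branch locus on `B[v]/(v^d - u)`. -/
def sE (u : Bˣ) (f : B) {d : ℕ} (hd : 0 < d) (i : ℤ) : EE u d :=
  ((vU u hd ^ i : (EE u d)ˣ) : EE u d) * algebraMap B (EE u d) f

/-- The model `B[v, x] / (v ^ d - u, x ^ n - v ^ i f)`. -/
abbrev DD (u : Bˣ) (f : B) {d : ℕ} (hd : 0 < d) (i : ℤ) (n : ℕ) : Type u :=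
  AdjoinRoot (X ^ n - C (sE u f hd i))

/-- A homomorphism out of the model. -/
theorem exists_hom (u : Bˣ) (f : B) {d : ℕ} (hd : 0 < d) (i : ℤ) (n : ℕ) {C' : Type u} [CommRing C']
    [Algebra B C'] (V Xu F : C'ˣ) (hF : (F : C') = algebraMap B C' f)
    (hV : V ^ (d : ℤ) = Units.map (algebraMap B C').toMonoidHom u)
    (hX : Xu ^ (n : ℤ) = V ^ i * F) :
    ∃ Φ : DD u f hd i n →ₐ[B] C',
      Φ (algebraMap (EE u d) _ (vU u hd)) = V ∧ Φ (AdjoinRoot.root _) = Xu := by
  let Φ0 : EE u d →ₐ[B] C' := AdjoinRoot.liftAlgHom _ (Algebra.ofId B C') (V : C') (by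
    rw [eval₂_sub, eval₂_X_pow, eval₂_C, sub_eq_zero, ← Units.val_pow_eq_pow_val, ← zpow_natCast, hV]
    rfl)
  have hv : Units.map (Φ0 : EE u d →* C') (vU u hd) = V := Units.ext (by
    show Φ0 (vU u hd : EE u d) = V
    rw [vU_val]
    exact AdjoinRoot.liftAlgHom_root _ _ _ _)
  refine ⟨AdjoinRoot.liftAlgHom _ Φ0 (Xu : C') ?_, ?_, AdjoinRoot.liftAlgHom_root _ _ _ _⟩
  · rw [eval₂_sub, eval₂_X_pow, eval₂_C, sub_eq_zero, ← Units.val_pow_eq_pow_val, ← zpow_natCast, hX,
      Units.val_mul, hF]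
    show _ = Φ0 (sE u f hd i)
    rw [sE, map_mul, AlgHom.commutes, ← hv, ← map_zpow]
    rfl
  · exact (AdjoinRoot.liftAlgHom_of _ _ _ _ _).trans (congrArg Units.val hv)

theorem isRegularRing_DD (u : Bˣ) (f : B) [IsDomain B] [IsRegularRing B]
    [IsRegularRing (B ⧸ Ideal.span {f})] (hf : f ≠ 0) {d : ℕ} (hd : 0 < d) (i : ℤ) {n : ℕ} (hn : 0 < n)
    (hdu : IsUnit (d : B)) (hnu : IsUnit (n : B)) :
    IsRegularRing (DD u f hd i n) ∧ Module.Finite B (DD u f hd i n) ∧
      algebraMap B (DD u f hd i n) f ∈ nonZeroDivisors (DD u f hd i n) := by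
  haveI := CyclicCoverLib.etale_adjoinRoot B (u : B) u.isUnit d hd hdu
  haveI : IsRegularRing (EE u d) := isRegularRing_of_etale B (EE u d)
  haveI : Module.Free B (EE u d) := (monic_X_pow_sub_C _ hd.ne').free_adjoinRoot
  haveI : Module.Finite B (EE u d) := (monic_X_pow_sub_C _ hd.ne').finite_adjoinRoot
  haveI : Module.Free (EE u d) (DD u f hd i n) := (monic_X_pow_sub_C _ hn.ne').free_adjoinRoot
  haveI : Module.Finite (EE u d) (DD u f hd i n) := (monic_X_pow_sub_C _ hn.ne').finite_adjoinRoot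
  have nzd : ∀ (M : Type u) [CommRing M] [Algebra B M] [Module.Free B M],
      algebraMap B M f ∈ nonZeroDivisors M := fun M _ _ _ => by
    refine mem_nonZeroDivisors_iff_right.2 fun x hx => ?_
    rw [mul_comm, ← Algebra.smul_def] at hx
    exact (smul_eq_zero.1 hx).resolve_left hf
  have hspan : Ideal.span {sE u f hd i} = Ideal.span {algebraMap B (EE u d) f} :=
    Ideal.span_singleton_mul_left_unit (Units.isUnit _) _
  haveI := isRegularRing_cover_quot B f (u : B) u.isUnit d hd hdu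
  haveI : IsRegularRing (EE u d ⧸ Ideal.span {sE u f hd i}) :=
    IsRegularRing.of_ringEquiv (Ideal.quotEquivOfEq hspan).symm
  refine ⟨isRegularRing_adjoinRoot (EE u d) (sE u f hd i) ?_ n hn
    (by simpa using hnu.map (algebraMap B (EE u d))), Module.Finite.trans (EE u d) _, ?_⟩
  · exact mul_mem (Units.isUnit _).mem_nonZeroDivisors (nzd _)
  · haveI : Module.Free B (DD u f hd i n) := Module.Free.trans (R := B) (S := EE u d)
    exact nzd _

/-- The `B`-algebra generated by the elements `t ^ i f ^ (-⌊iα/N⌋)` inside `B[t, 1/f]/(t ^ N - u f^α)`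
is a regular ring, finite over `B`, and is integrally closed there. -/
theorem main {B : Type u} [CommRing B] [IsDomain B] [IsRegularRing B] (f : B) (hf : f ≠ 0)
    [IsRegularRing (B ⧸ Ideal.span {f})] (N : ℕ) (hN : 0 < N) (hNu : IsUnit (N : B)) (u : Bˣ) (α : ℕ)
    (K : Type u) [CommRing K] [Algebra B K] (t : K) (T F : Kˣ) (hT : (T : K) = t)
    (hF : (F : K) = algebraMap B K f) (ht : t ^ N = algebraMap B K ((u : B) * f ^ α))
    (hlift : ∀ (C' : Type u) [CommRing C'] [Algebra B C'] (c : C'),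
      c ^ N = algebraMap B C' ((u : B) * f ^ α) → IsUnit (algebraMap B C' f) →
        ∃ ψ : K →ₐ[B] C', ψ t = c)
    (hgen : ∀ z : K, ∃ k : ℕ, z * algebraMap B K f ^ k ∈ Algebra.adjoin B {t})
    (A : Subalgebra B K) (hA : A = Algebra.adjoin B (Set.range fun a : Fin N =>
      t ^ (a : ℕ) * ((F⁻¹ : Kˣ) : K) ^ ((a : ℕ) * α / N))) :
    IsRegularRing A ∧ Module.Finite B A ∧ t ∈ A ∧ ∀ z : K, IsIntegral B z → z ∈ A := by
  obtain ⟨g, n, m, hg, hcop, hNg, hαg⟩ := Nat.exists_coprime' (Nat.gcd_pos_of_pos_left α hN)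
  have hn : 0 < n := Nat.pos_of_ne_zero fun h => by simp [h] at hNg; omega
  have hco : IsCoprime (m : ℤ) (n : ℤ) := (Nat.isCoprime_iff_coprime.2 hcop).symm
  obtain ⟨i, b, hib⟩ := hco
  obtain ⟨q, hq⟩ : ∃ q : ℤ, q = -b := ⟨_, rfl⟩
  have him : i * m - q * n = 1 := by rw [hq]; linarith
  have hdu : IsUnit (g : B) := isUnit_of_mul_isUnit_right (x := (n : B)) (by
    rw [← Nat.cast_mul, ← hNg]; exact hNu)
  have hnu : IsUnit (n : B) := isUnit_of_mul_isUnit_left (y := (g : B)) (by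
    rw [← Nat.cast_mul, ← hNg]; exact hNu)
  obtain ⟨hreg, hfin, hnzd⟩ := isRegularRing_DD u f hf hg i hn hdu hnu
  haveI := hreg
  haveI := hfin
  let D := DD u f hg i n
  let U : Kˣ := Units.map (algebraMap B K).toMonoidHom u
  have hTN : w T F N 0 = U * w T F 0 (α : ℤ) := Units.ext (by
    simp only [w, zpow_natCast, zpow_zero, _root_.mul_one, _root_.one_mul, Units.val_mul,
      Units.val_pow_eq_pow_val, hT, hF, ht, map_mul, map_pow]
    rfl)
  have hU : U = w T F N (-(α : ℤ)) := by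
    calc U = U * (w T F 0 (α : ℤ) * w T F 0 (-(α : ℤ))) := by rw [w_mul]; simp [w]
      _ = w T F N 0 * w T F 0 (-(α : ℤ)) := by rw [← mul_assoc, hTN]
      _ = w T F N (-(α : ℤ)) := by rw [w_mul]; simp
  obtain ⟨V, hVdef⟩ : ∃ V, V = w T F n (-(m : ℤ)) := ⟨_, rfl⟩
  obtain ⟨Xu, hXdef⟩ : ∃ Xu, Xu = w T F i (-q) := ⟨_, rfl⟩
  have hN' : (N : ℤ) = n * g := by exact_mod_cast hNg
  have hα' : (α : ℤ) = m * g := by exact_mod_cast hαg
  obtain ⟨Φ, hΦv, hΦx⟩ := exists_hom u f hg i n V Xu F hF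
    (by rw [hVdef, w_zpow]; exact (w_eq T F (by rw [hN']) (by rw [hα']; ring)).trans hU.symm)
    (by rw [hVdef, hXdef, w_zpow, w_zpow]
        conv_rhs => arg 2; rw [w_snd T F]
        rw [w_mul]
        exact w_eq T F (by ring) (by linear_combination him))
  -- injectivity
  let Cl := Localization.Away (algebraMap B D f)
  let ι : D →ₐ[B] Cl := IsScalarTower.toAlgHom B D Cl
  have hιf : IsUnit (algebraMap B Cl f) := by
    rw [IsScalarTower.algebraMap_apply B D Cl]
    exact IsLocalization.Away.algebraMap_isUnit _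
  let Fc : Clˣ := hιf.unit
  let Vc : Clˣ := Units.map (ι : D →* Cl) (Units.map (algebraMap (EE u g) D).toMonoidHom (vU u hg))
  have hxn : (ι (AdjoinRoot.root _)) ^ n = ((Vc ^ i * Fc : Clˣ) : Cl) := by
    have h := AdjoinRoot.eval₂_root (X ^ n - C (sE u f hg i))
    rw [eval₂_sub, eval₂_X_pow, eval₂_C, sub_eq_zero] at h
    rw [← map_pow, h, Units.val_mul]
    show ι (algebraMap (EE u g) D (((vU u hg ^ i : (EE u g)ˣ) : EE u g) * algebraMap B (EE u g) f)) = _
    rw [map_mul, map_mul]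
    congr 1
    simp only [Vc, ← map_zpow]; rfl
  let Xc : Clˣ := ((isUnit_pow_iff hn.ne').1 (hxn ▸ Units.isUnit _) :
    IsUnit (ι (AdjoinRoot.root (X ^ n - C (sE u f hg i))))).unit
  have hXc : (Xc : Cl) = ι (AdjoinRoot.root _) := IsUnit.unit_spec _
  have hFc : Fc = w Vc Xc (-i) n := by
    have h1 : Xc ^ (n : ℤ) = Vc ^ i * Fc := Units.ext (by
      rw [zpow_natCast, Units.val_pow_eq_pow_val, hXc, hxn])
    rw [w, h1, ← mul_assoc, ← zpow_add, neg_add_cancel, zpow_zero, _root_.one_mul]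
  let Uc : Clˣ := Units.map (algebraMap B Cl).toMonoidHom u
  have hUc : Uc = w Vc Xc g 0 := Units.ext (by
    simp only [w, zpow_natCast, zpow_zero, _root_.mul_one, Units.val_pow_eq_pow_val, Vc, Units.coe_map]
    show algebraMap B Cl u = ι (algebraMap (EE u g) D (vU u hg : EE u g)) ^ g
    rw [← map_pow, ← map_pow, vU_val, root_pow, ← IsScalarTower.algebraMap_apply, AlgHom.commutes])
  obtain ⟨ψ, hψ⟩ := hlift Cl ((w Vc Xc (-q) m : Clˣ) : Cl) (by
    have h : w Vc Xc (-q) m ^ (N : ℤ) = Uc * Fc ^ (α : ℤ) := by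
      rw [hUc, hFc, w_zpow, w_zpow, w_mul]
      exact w_eq Vc Xc (by rw [hN', hα']; linear_combination (g : ℤ) * him)
        (by rw [hN', hα']; ring)
    have h' := congrArg (Units.val (α := Cl)) h
    simp only [zpow_natCast, Units.val_pow_eq_pow_val, Units.val_mul, IsUnit.unit_spec, Fc] at h'
    rw [h', map_mul, map_pow]; rfl) hιf
  have hψT : Units.map (ψ : K →* Cl) T = w Vc Xc (-q) m :=
    Units.ext (by rw [Units.coe_map, hT]; exact hψ)
  have hψF : Units.map (ψ : K →* Cl) F = w Vc Xc (-i) n :=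
    (Units.ext (by rw [Units.coe_map, hF, IsUnit.unit_spec]; exact ψ.commutes f)).trans hFc
  have hcomp : ψ.comp Φ = ι := by
    have hψv : ψ (V : K) = (Vc : Cl) := by
      show ((Units.map (ψ : K →* Cl) V : Clˣ) : Cl) = _
      rw [hVdef, map_w, hψT, hψF]
      conv_lhs => arg 1; rw [w, w_zpow, w_zpow, w_mul]
      rw [w_eq Vc Xc (a' := 1) (b' := 0) (by linear_combination him) (by ring), ← w_fst]
    have hψx : ψ (Xu : K) = (Xc : Cl) := by
      show ((Units.map (ψ : K →* Cl) Xu : Clˣ) : Cl) = _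
      rw [hXdef, map_w, hψT, hψF]
      conv_lhs => arg 1; rw [w, w_zpow, w_zpow, w_mul]
      rw [w_eq Vc Xc (a' := 0) (b' := 1) (by ring) (by linear_combination him), ← w_snd]
    refine AdjoinRoot.algHom_ext' (AdjoinRoot.algHom_ext ?_) ?_
    · show ψ (Φ (algebraMap (EE u g) D (AdjoinRoot.root _))) =
        ι (algebraMap (EE u g) D (AdjoinRoot.root _))
      rw [← vU_val u hg, hΦv, hψv]
      rfl
    · rw [AlgHom.comp_apply, hΦx, hψx, hXc]
  have hΦinj : Function.Injective Φ := fun a c h => by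
    have h' : ι a = ι c := by rw [← hcomp]; exact congrArg ψ h
    exact IsLocalization.injective Cl (Submonoid.powers_le.2 hnzd) h'
  -- the range is `A`
  have hFA : ∀ k : ℕ, (algebraMap B K f) ^ k ∈ A := fun k => pow_mem (A.algebraMap_mem f) k
  have hUz : ∀ k : ℤ, ((U ^ k : Kˣ) : K) ∈ A := fun k => by
    simp only [U, ← map_zpow]
    exact A.algebraMap_mem _
  have gmem : ∀ a : ℤ, ((w T F a (-(a * (α : ℤ) / N)) : Kˣ) : K) ∈ A := by
    intro a
    obtain ⟨r, hr⟩ := Int.eq_ofNat_of_zero_le (Int.emod_nonneg a (by omega : (N : ℤ) ≠ 0))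
    have hrN : r < N := by
      have := Int.emod_lt_of_pos a (by omega : 0 < (N : ℤ))
      omega
    have ha : a = r + a / N * N := by
      have := Int.mul_ediv_add_emod a N
      rw [hr] at this
      linear_combination -this
    have e : w T F a (-(a * (α : ℤ) / N)) =
        U ^ (a / (N : ℤ)) * w T F (r : ℤ) (-(((r * α / N : ℕ) : ℤ))) := by
      rw [hU, w_zpow, w_mul]
      refine w_eq T F (by linear_combination ha) ?_
      conv_lhs => rw [ha]
      rw [add_mul, mul_right_comm, Int.add_mul_ediv_right _ _ (by omega : (N : ℤ) ≠ 0)]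
      push_cast
      ring
    rw [e, Units.val_mul]
    refine mul_mem (hUz _) ?_
    rw [hA]
    refine Algebra.subset_adjoin ⟨⟨r, hrN⟩, ?_⟩
    simp only [w, zpow_neg, zpow_natCast, Units.val_mul, Units.val_pow_eq_pow_val, ← inv_pow, hT]
  have hfloor : ∀ a : ℤ, a * (α : ℤ) / N = a * m / n := fun a => by
    rw [hN', hα', ← mul_assoc, Int.mul_ediv_mul_of_pos_left _ _ (by exact_mod_cast hg)]
  have hVA : (V : K) ∈ A := by
    have := gmem n
    rw [hfloor, Int.mul_ediv_cancel_left _ (by omega : (n : ℤ) ≠ 0)] at this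
    rwa [hVdef]
  have hXA : (Xu : K) ∈ A := by
    obtain ⟨e, he⟩ := Int.eq_ofNat_of_zero_le (show (0 : ℤ) ≤ i * m / n - q by
      have : q ≤ i * m / n := Int.le_ediv_of_mul_le (by omega) (by linarith)
      omega)
    have h1 : Xu = w T F i (-(i * (α : ℤ) / N)) * F ^ (e : ℤ) := by
      rw [hXdef, hfloor]
      conv_rhs => arg 2; rw [w_snd T F, w_zpow]
      rw [w_mul]
      exact w_eq T F (by ring) (by linear_combination he)
    rw [h1, Units.val_mul, zpow_natCast, Units.val_pow_eq_pow_val, hF]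
    exact mul_mem (gmem i) (hFA e)
  have hrange : Φ.range = A := by
    apply le_antisymm
    · rintro _ ⟨z, rfl⟩
      show z ∈ A.comap Φ
      induction z using AdjoinRoot.induction_on with
      | ih p =>
        induction p using Polynomial.induction_on' with
        | add p₁ p₂ h₁ h₂ => rw [map_add]; exact add_mem h₁ h₂
        | monomial k c =>
          rw [← C_mul_X_pow_eq_monomial, map_mul, map_pow, AdjoinRoot.mk_C, AdjoinRoot.mk_X]
          refine mul_mem ?_ (pow_mem ?_ _)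
          rotate_left
          · show Φ (AdjoinRoot.root _) ∈ A
            rw [hΦx]; exact hXA
          have : c ∈ (A.comap Φ).comap (IsScalarTower.toAlgHom B (EE u g) D) := by
            have htop : (⊤ : Subalgebra B (EE u g)) ≤
                (A.comap Φ).comap (IsScalarTower.toAlgHom B (EE u g) D) := by
              rw [← AdjoinRoot.adjoinRoot_eq_top, Algebra.adjoin_le_iff, Set.singleton_subset_iff]
              show Φ (algebraMap (EE u g) D (AdjoinRoot.root _)) ∈ A
              rw [← vU_val u hg, hΦv]; exact hVA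
            exact htop trivial
          exact this
    · rw [hA, Algebra.adjoin_le_iff]
      rintro _ ⟨a, rfl⟩
      obtain ⟨Q, hQ⟩ : ∃ Q : ℕ, Q = (a : ℕ) * m / n := ⟨_, rfl⟩
      obtain ⟨r, hr⟩ : ∃ r : ℕ, (a : ℕ) * m = Q * n + r := ⟨(a : ℕ) * m % n, by
        rw [hQ, Nat.div_add_mod' ((a : ℕ) * m) n]⟩
      have hQ' : (a : ℕ) * α / N = Q := by
        rw [hQ]
        generalize ((a : ℕ)) = a'
        rw [hαg, hNg, ← mul_assoc, Nat.mul_div_mul_right _ _ hg]
      refine ⟨AdjoinRoot.root _ ^ r *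
        algebraMap (EE u g) D ((vU u hg ^ (i * (Q : ℤ) - q * (a : ℕ)) : (EE u g)ˣ) : EE u g), ?_⟩
      show Φ _ = t ^ (a : ℕ) * ((F⁻¹ : Kˣ) : K) ^ ((a : ℕ) * α / N)
      rw [map_mul, map_pow, hΦx, hQ']
      have hv : Φ (algebraMap (EE u g) D ((vU u hg ^ (i * (Q : ℤ) - q * (a : ℕ)) : (EE u g)ˣ) : EE u g)) =
          ((V ^ (i * (Q : ℤ) - q * (a : ℕ)) : Kˣ) : K) := by
        have : Units.map ((Φ : D →* K).comp (algebraMap (EE u g) D).toMonoidHom) (vU u hg) = V :=
          Units.ext hΦv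
        rw [← this, ← map_zpow]; rfl
      rw [hv, ← Units.val_pow_eq_pow_val, ← Units.val_mul, ← hT, ← Units.val_pow_eq_pow_val,
        ← Units.val_pow_eq_pow_val, ← Units.val_mul]
      congr 1
      rw [hVdef, hXdef, ← zpow_natCast, w_zpow, w_zpow, w_mul,
        show T ^ (a : ℕ) * F⁻¹ ^ Q = w T F (a : ℕ) (-(Q : ℤ)) by
          simp [w, zpow_natCast]]
      have hr' : ((a : ℕ) : ℤ) * m = Q * n + r := by exact_mod_cast hr
      exact w_eq T F (by linear_combination ((a : ℕ) : ℤ) * him - i * hr')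
        (by linear_combination (-(Q : ℤ)) * him + q * hr')
  let e : D ≃ₐ[B] Φ.range := AlgEquiv.ofInjective Φ hΦinj
  let e' : D ≃ₐ[B] A := e.trans (Subalgebra.equivOfEq _ _ hrange)
  have htA : t ∈ A := by
    have h1 : (T : K) =
        ((w T F 1 (-(1 * (α : ℤ) / N)) : Kˣ) : K) * algebraMap B K f ^ (α / N) := by
      rw [← hF, ← Units.val_pow_eq_pow_val, ← Units.val_mul]
      congr 1
      conv_rhs => arg 2; rw [← zpow_natCast, w_snd T F, w_zpow]
      rw [w_mul, _root_.one_mul, ← Int.natCast_div]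
      exact (w_fst T F).trans (w_eq T F (by ring) (by push_cast; ring))
    rw [← hT, h1]
    exact mul_mem (gmem 1) (hFA _)
  refine ⟨IsRegularRing.of_ringEquiv e'.toRingEquiv, Module.Finite.equiv e'.toLinearEquiv, htA,
    fun z hz => ?_⟩
  -- integrally closed
  obtain ⟨k, hk⟩ := hgen z
  have hk' : z * algebraMap B K f ^ k ∈ Φ.range := by
    rw [hrange]
    exact Algebra.adjoin_le (Set.singleton_subset_iff.2 htA) hk
  obtain ⟨b, hb⟩ := hk'
  have hΦf : IsUnit (Φ (algebraMap B D f)) := by rw [AlgHom.commutes, ← hF]; exact F.isUnit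
  let Φf : Cl →ₐ[B] K := IsLocalization.Away.liftAlgHom (algebraMap B D f) hΦf
  have hΦf' : ∀ d, Φf (algebraMap D Cl d) = Φ d := fun d => IsLocalization.Away.lift_eq (algebraMap B D f) hΦf d
  have hinjf : Function.Injective Φf := by
    refine (injective_iff_map_eq_zero Φf).2 fun c hc => ?_
    obtain ⟨l, a, ha⟩ := IsLocalization.Away.surj (algebraMap B D f) c
    have h0 : Φ a = 0 := by rw [← hΦf', ← ha, map_mul, hc, zero_mul]
    rw [(map_eq_zero_iff Φ hΦinj).1 h0, map_zero] at ha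
    exact (IsLocalization.Away.algebraMap_pow_isUnit _ l).mul_left_eq_zero.1 ha
  let y : Cl := algebraMap D Cl b * ((Fc ^ k)⁻¹ : Clˣ)
  have hy : Φf y = z := by
    apply (F.isUnit.pow k).mul_left_injective
    show Φf y * (F : K) ^ k = z * (F : K) ^ k
    rw [hF]
    conv_rhs => rw [← hb]
    have hfc : (Fc : Cl) = algebraMap B Cl f := IsUnit.unit_spec _
    rw [← AlgHom.commutes Φf f, ← map_pow, ← map_mul, ← hfc, ← Units.val_pow_eq_pow_val, mul_assoc,
      Units.inv_mul, _root_.mul_one, hΦf']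
    rfl
  have hyint : IsIntegral B y := (isIntegral_algHom_iff Φf hinjf).1 (by rw [hy]; exact hz)
  obtain ⟨d, hd⟩ := exists_eq_of_isIntegral_away (algebraMap B D f) hnzd Cl y hyint.tower_top
  rw [← hrange]
  exact ⟨d, by rw [← hy, ← hd, hΦf']; rfl⟩

end Groth.Agent.CyclicRootLib
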